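import Mathlib
import Cfsg.Agent.Lib.Helper44.FW.Defs

set_option autoImplicit false

namespace Cfsg.Agent.Lib.Helper19.FW

open Cfsg.Agent.Lib.Helper44.FW

universe u

theorem mem_cent_iff19 {G : Type u} [Group G] (j r : G) :
    r ∈ Subgroup.centralizer ({j} : Set G) ↔ j * r = r * j := by
  rw [Subgroup.mem_centralizer_iff]
  constructor
  · intro h; exact h j rfl
  · intro h x hx
    rw [Set.mem_singleton_iff] at hx
    rw [hx]; exact h

/-- [SWAP] -/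
theorem pkgSwap : PkgSwap.{u} := by
  intro G _ j t₀ hj hH ht₀C ht₀2 ht₀1 ht₀j ⟨g, hgne, hgc⟩
  have hj2 : j * j = 1 := by
    have := pow_orderOf_eq_one j
    rw [hj, pow_two] at this
    exact this
  have hj1 : j ≠ 1 := by
    intro h
    rw [h, orderOf_one] at hj
    exact absurd hj (by norm_num)
  have hjinv : j⁻¹ = j := inv_eq_of_mul_eq_one_right hj2
  -- t = g j g⁻¹
  have htC : g * j * g⁻¹ ∈ Subgroup.centralizer ({j} : Set G) := by
    rw [mem_cent_iff19]; exact hgc.symm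
  have ht2 : (g * j * g⁻¹) ^ 2 = 1 := by
    rw [pow_two]
    calc g * j * g⁻¹ * (g * j * g⁻¹) = g * (j * j) * g⁻¹ := by group
      _ = 1 := by rw [hj2]; group
  have ht1 : g * j * g⁻¹ ≠ 1 := by
    intro h
    apply hj1
    have : j = g⁻¹ * (g * j * g⁻¹) * g := by group
    rw [this, h]; group
  obtain ⟨c, hcC, hc⟩ := hH (g * j * g⁻¹) htC ht2 ht1 hgne t₀ ht₀C ht₀2 ht₀1 ht₀j
  -- g₁ = c g
  have hg1 : (c * g) * j * (c * g)⁻¹ = t₀ := by
    rw [← hc]; group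
  -- a = g₁⁻¹ j g₁
  have hcomm0 : j * t₀ = t₀ * j := (mem_cent_iff19 j t₀).1 ht₀C
  have haC : (c * g)⁻¹ * j * (c * g) ∈ Subgroup.centralizer ({j} : Set G) := by
    rw [mem_cent_iff19]
    -- j = g₁⁻¹ t₀ g₁
    have hjj : j = (c * g)⁻¹ * t₀ * (c * g) := by
      rw [← hg1]; group
    calc j * ((c * g)⁻¹ * j * (c * g))
        = ((c * g)⁻¹ * t₀ * (c * g)) * ((c * g)⁻¹ * j * (c * g)) := by rw [← hjj]
      _ = (c * g)⁻¹ * (t₀ * j) * (c * g) := by group
      _ = (c * g)⁻¹ * (j * t₀) * (c * g) := by rw [hcomm0]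
      _ = ((c * g)⁻¹ * j * (c * g)) * ((c * g)⁻¹ * t₀ * (c * g)) := by group
      _ = ((c * g)⁻¹ * j * (c * g)) * j := by rw [← hjj]
  have ha2 : ((c * g)⁻¹ * j * (c * g)) ^ 2 = 1 := by
    rw [pow_two]
    calc (c * g)⁻¹ * j * (c * g) * ((c * g)⁻¹ * j * (c * g))
        = (c * g)⁻¹ * (j * j) * (c * g) := by group
      _ = 1 := by rw [hj2]; group
  have ha1 : (c * g)⁻¹ * j * (c * g) ≠ 1 := by
    intro h
    apply hj1
    have : j = (c * g) * ((c * g)⁻¹ * j * (c * g)) * (c * g)⁻¹ := by group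
    rw [this, h]; group
  have haj : (c * g)⁻¹ * j * (c * g) ≠ j := by
    intro h
    apply ht₀j
    rw [← hg1]
    have : (c * g) * j * (c * g)⁻¹ = (c * g) * ((c * g)⁻¹ * j * (c * g)) * (c * g)⁻¹ := by
      rw [h]
    rw [this]; group
  obtain ⟨c', hc'C, hc'⟩ := hH t₀ ht₀C ht₀2 ht₀1 ht₀j _ haC ha2 ha1 haj
  have hc'j : c' * j * c'⁻¹ = j := by
    have := (mem_cent_iff19 j c').1 hc'C
    calc c' * j * c'⁻¹ = (j * c') * c'⁻¹ := by rw [this]
      _ = j := by group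
  refine ⟨(c * g) * c', ?_, ?_⟩
  · calc (c * g) * c' * j * ((c * g) * c')⁻¹
        = (c * g) * (c' * j * c'⁻¹) * (c * g)⁻¹ := by group
      _ = t₀ := by rw [hc'j, hg1]
  · calc (c * g) * c' * t₀ * ((c * g) * c')⁻¹
        = (c * g) * (c' * t₀ * c'⁻¹) * (c * g)⁻¹ := by group
      _ = j := by rw [hc']; group

end Cfsg.Agent.Lib.Helper19.FW
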